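import Cfsg.Agent.L0.PcCert
import Cfsg.Agent.L0.Dw
import Cfsg.Agent.H3.Mu.Sz8.Tab

/-! Generated certificate: the `2`-part of a Schur multiplier. -/

set_option autoImplicit false
set_option maxRecDepth 100000

open Cfsg.Agent.L0

namespace Cfsg.Agent.H3.Sz8.P2

noncomputable def W : List (List ℕ) := [
  dw (nat_lit 4) (nat_lit 15) (nat_lit 2) (nat_lit 0x20),
  dw (nat_lit 4) (nat_lit 15) (nat_lit 4) (nat_lit 0x5204),
  dw (nat_lit 4) (nat_lit 15) (nat_lit 6) (nat_lit 0x25823),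
  dw (nat_lit 4) (nat_lit 15) (nat_lit 6) (nat_lit 0x25523),
  dw (nat_lit 4) (nat_lit 15) (nat_lit 6) (nat_lit 0x621101),
  dw (nat_lit 4) (nat_lit 15) (nat_lit 8) (nat_lit 0x17025260),
  dw (nat_lit 4) (nat_lit 15) (nat_lit 6) (nat_lit 0x617253)]

noncomputable def P : PcP := ⟨nat_lit 2, nat_lit 1, nat_lit 5, nat_lit 0x4104104008208200410408b384487, nat_lit 6, nat_lit 63, nat_lit 11, nat_lit 2047, nat_lit 4, nat_lit 27, nat_lit 5, nat_lit 6⟩

noncomputable def fu : Fus := ⟨[nat_lit 32, nat_lit 16, nat_lit 8, nat_lit 4, nat_lit 2, nat_lit 1],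
  [nat_lit 46, nat_lit 60, nat_lit 51, nat_lit 6, nat_lit 1, nat_lit 4],
  [nat_lit 6, nat_lit 6, nat_lit 6, nat_lit 6, nat_lit 6, nat_lit 6]⟩

noncomputable def lam : List ℕ := [nat_lit 0xc0180300000c0180000000000000006000018000060000180300600c0180000000c00000,
  nat_lit 0x180300600c000000000000000000000c0000000600c018030000000000300000001803,
  nat_lit 0xc00003000000018030000000000000000c000030000000000300000c0180300000000000,
  nat_lit 0x1002004008000000000000000000000800000004008010020000000000200000401002,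
  nat_lit 0x800,
  nat_lit 0x800000004000010000000000000000400801000000008000000040080100200000400803]

noncomputable def bs : List ℕ := [nat_lit 0x40000000000000000,
  nat_lit 0x10000000000000000000000]

noncomputable def mo : List ℕ := [nat_lit 0x30,
  nat_lit 0xc000]

noncomputable def cv0 : List ℕ := [nat_lit 0x20000000000000000000,
  nat_lit 0x1000000000000000000000000000000000,
  nat_lit 0x80000000000000000,
  nat_lit 0x8000000000000000000000000000,
  nat_lit 0x400000000000000000000000000000000000000000,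
  nat_lit 0x4000000000000000000000000000000,
  nat_lit 0x200000000000000000000000000000000000000000000,
  nat_lit 0x20000000000000000000000,
  nat_lit 0x100000000000000000000000000000000000000000000000,
  nat_lit 0x1000000000000000000000000000000000000,
  nat_lit 0x80000000000000000000000000000000000000000000000000,
  nat_lit 0x40000000000000000000000000000000000000000000000000000,
  nat_lit 0x1800004000000000000000000000000000000,
  nat_lit 0xc0000200000000000000000000000000000000000000000000,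
  nat_lit 0x60000100000000000000000000000000000000000000000000000,
  nat_lit 0x200000000000004000000000040000000000000000,
  nat_lit 0xc00000006000000000000040000000000001000,
  nat_lit 0xc01803000004018030000000000000400000000,
  nat_lit 0x30060000180000000c00003002000000000000000000200000000000,
  nat_lit 0x10020000000100000400000002000000010000000000200000000000,
  nat_lit 0x40000000100000400000002004000000020000000000000001000,
  nat_lit 0x40080080000000400801000004008010000040000000400000000,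
  nat_lit 0x400c0000000200000001006004000000060000000000000000000,
  nat_lit 0x1000000000000010000000000000000c00000000000000000000000000000000000000,
  nat_lit 0x800000000000000030000000000000000000000000000008000000000000000000000000,
  nat_lit 0x2000000000000000000000000000400800000000000000000000000000000000000,
  nat_lit 0x1800004000000010040000000100200800000004004008000040000180000000400801,
  nat_lit 0xc01803000000010000060080100000000800802000004008020000040080000200000000,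
  nat_lit 0x30000080000100600c0080200000801800004000010020040040080100200000801,
  nat_lit 0x1803000000000030040000180000200c010000000000180000000c0000300400000800,
  nat_lit 0xc01800000000000030060040180300200c010010000040180200000c0000200600000000,
  nat_lit 0x180000000000003000000008000000000100000000c000000000000000300000000000]

noncomputable def cc0 : List Con := [
  ⟨nat_lit 1, nat_lit 1, nat_lit 1, [nat_lit 16], [], nthN cv0 (nat_lit 0)⟩,
  ⟨nat_lit 1, nat_lit 2, nat_lit 2, [nat_lit 8], [], nthN cv0 (nat_lit 1)⟩,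
  ⟨nat_lit 0, nat_lit 0, nat_lit 3, [nat_lit 4], [], nthN cv0 (nat_lit 2)⟩,
  ⟨nat_lit 0, nat_lit 0, nat_lit 4, [nat_lit 2], [], nthN cv0 (nat_lit 3)⟩,
  ⟨nat_lit 0, nat_lit 0, nat_lit 5, [nat_lit 1], [], nthN cv0 (nat_lit 4)⟩,
  ⟨nat_lit 0, nat_lit 1, nat_lit 4, [nat_lit 2], [], nthN cv0 (nat_lit 5)⟩,
  ⟨nat_lit 0, nat_lit 1, nat_lit 5, [nat_lit 1], [], nthN cv0 (nat_lit 6)⟩,
  ⟨nat_lit 0, nat_lit 2, nat_lit 3, [nat_lit 4], [], nthN cv0 (nat_lit 7)⟩,
  ⟨nat_lit 0, nat_lit 2, nat_lit 5, [nat_lit 1], [], nthN cv0 (nat_lit 8)⟩,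
  ⟨nat_lit 0, nat_lit 3, nat_lit 4, [nat_lit 2], [], nthN cv0 (nat_lit 9)⟩,
  ⟨nat_lit 0, nat_lit 3, nat_lit 5, [nat_lit 1], [], nthN cv0 (nat_lit 10)⟩,
  ⟨nat_lit 0, nat_lit 4, nat_lit 5, [nat_lit 1], [], nthN cv0 (nat_lit 11)⟩,
  ⟨nat_lit 1, nat_lit 1, nat_lit 1, [nat_lit 2], [], nthN cv0 (nat_lit 12)⟩,
  ⟨nat_lit 1, nat_lit 1, nat_lit 1, [nat_lit 1], [], nthN cv0 (nat_lit 13)⟩,
  ⟨nat_lit 1, nat_lit 2, nat_lit 2, [nat_lit 1], [], nthN cv0 (nat_lit 14)⟩,
  ⟨nat_lit 1, nat_lit 0, nat_lit 0, [nat_lit 32], [], nthN cv0 (nat_lit 15)⟩,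
  ⟨nat_lit 0, nat_lit 0, nat_lit 1, [nat_lit 16], [], nthN cv0 (nat_lit 16)⟩,
  ⟨nat_lit 0, nat_lit 0, nat_lit 2, [nat_lit 8], [], nthN cv0 (nat_lit 17)⟩,
  ⟨nat_lit 0, nat_lit 1, nat_lit 2, [nat_lit 8], [], nthN cv0 (nat_lit 18)⟩,
  ⟨nat_lit 1, nat_lit 1, nat_lit 1, [nat_lit 8], [], nthN cv0 (nat_lit 19)⟩,
  ⟨nat_lit 1, nat_lit 0, nat_lit 0, [nat_lit 16], [], nthN cv0 (nat_lit 20)⟩,
  ⟨nat_lit 1, nat_lit 0, nat_lit 0, [nat_lit 8], [], nthN cv0 (nat_lit 21)⟩,
  ⟨nat_lit 0, nat_lit 0, nat_lit 1, [nat_lit 8], [], nthN cv0 (nat_lit 22)⟩,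
  ⟨nat_lit 2, nat_lit 6, nat_lit 0, [nat_lit 4, nat_lit 4], [], nthN cv0 (nat_lit 23)⟩,
  ⟨nat_lit 2, nat_lit 6, nat_lit 0, [nat_lit 5, nat_lit 5], [], nthN cv0 (nat_lit 24)⟩,
  ⟨nat_lit 2, nat_lit 6, nat_lit 0, [nat_lit 3, nat_lit 3], [], nthN cv0 (nat_lit 25)⟩,
  ⟨nat_lit 2, nat_lit 6, nat_lit 0, [nat_lit 2, nat_lit 2], [nat_lit 4], nthN cv0 (nat_lit 26)⟩,
  ⟨nat_lit 2, nat_lit 6, nat_lit 0, [nat_lit 0, nat_lit 0], [nat_lit 3, nat_lit 4, nat_lit 5], nthN cv0 (nat_lit 27)⟩,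
  ⟨nat_lit 2, nat_lit 6, nat_lit 0, [nat_lit 1, nat_lit 1], [nat_lit 3], nthN cv0 (nat_lit 28)⟩,
  ⟨nat_lit 2, nat_lit 6, nat_lit 0, [nat_lit 2, nat_lit 0], [nat_lit 0, nat_lit 2, nat_lit 3, nat_lit 4], nthN cv0 (nat_lit 29)⟩,
  ⟨nat_lit 2, nat_lit 6, nat_lit 0, [nat_lit 2, nat_lit 1], [nat_lit 1, nat_lit 2, nat_lit 4, nat_lit 5], nthN cv0 (nat_lit 30)⟩,
  ⟨nat_lit 2, nat_lit 6, nat_lit 0, [nat_lit 1, nat_lit 0], [nat_lit 0, nat_lit 1, nat_lit 4], nthN cv0 (nat_lit 31)⟩]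

theorem con0 : allL cc0 (P.conOk fu) = true := by decide +kernel

noncomputable def CV : List (List ℕ) := [cv0]

noncomputable def MU : List (List ℕ) := [[nat_lit 0],
  [nat_lit 0,
  nat_lit 0],
  [nat_lit 0xd1c7ba2720000041,
  nat_lit 0x3e570dd9c700000f2,
  nat_lit 0xd440e0fc0400000eb],
  [nat_lit 0x3,
  nat_lit 0x30,
  nat_lit 0xc,
  nat_lit 0x22c51cf560000082],
  [nat_lit 0x2dfd800000056,
  nat_lit 0x18a8ec000005b,
  nat_lit 0xc0,
  nat_lit 0x20008900000a2,
  nat_lit 0x38a96400000f8],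
  [nat_lit 0x27574000000ff,
  nat_lit 0x2656a000000cf,
  nat_lit 0x6a62800000a9,
  nat_lit 0x8a804000008a,
  nat_lit 0x808100000002,
  nat_lit 0xa70553a80000038]]

noncomputable def lv : List (List (List ℕ) × ℕ × List (ℕ × List ℕ)) := [
  ([[nat_lit 0], [nat_lit 1], [nat_lit 2], [nat_lit 3], [nat_lit 4], [nat_lit 5]], nat_lit 0, [(nat_lit 0, []), (nat_lit 2, [nat_lit 0, nat_lit 0, nat_lit 0]), (nat_lit 4, [nat_lit 0, nat_lit 0]), (nat_lit 12, [nat_lit 5, nat_lit 2, nat_lit 1]), (nat_lit 22, [nat_lit 0, nat_lit 1]), (nat_lit 34, [nat_lit 3, nat_lit 1, nat_lit 2]), (nat_lit 35, [nat_lit 3, nat_lit 0, nat_lit 1]), (nat_lit 47, [nat_lit 3, nat_lit 2, nat_lit 0]), (nat_lit 56, [nat_lit 0, nat_lit 2]), (nat_lit 64, [nat_lit 0]), (nat_lit 80, [nat_lit 1, nat_lit 0, nat_lit 2]), (nat_lit 95, [nat_lit 1, nat_lit 0]), (nat_lit 97, [nat_lit 1, nat_lit 0, nat_lit 0]), (nat_lit 107, [nat_lit 3, nat_lit 0]), (nat_lit 110, [nat_lit 5, nat_lit 2, nat_lit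 1, nat_lit 0]), (nat_lit 117, [nat_lit 1, nat_lit 2, nat_lit 0]), (nat_lit 124, [nat_lit 0, nat_lit 1, nat_lit 2]), (nat_lit 126, [nat_lit 4, nat_lit 2, nat_lit 0]), (nat_lit 128, [nat_lit 5, nat_lit 4, nat_lit 1]), (nat_lit 135, [nat_lit 4, nat_lit 3, nat_lit 1]), (nat_lit 144, [nat_lit 5, nat_lit 3, nat_lit 2]), (nat_lit 149, [nat_lit 1, nat_lit 0, nat_lit 0, nat_lit 0]), (nat_lit 154, [nat_lit 1, nat_lit 2]), (nat_lit 166, [nat_lit 0, nat_lit 1, nat_lit 0]), (nat_lit 171, [nat_lit 4, nat_lit 2]), (nat_lit 180, [nat_lit 2, nat_lit 0, nat_lit 0]), (nat_lit 182, [nat_lit 5, nat_lit 3, nat_lit 0]), (nat_lit 185, [nat_lit 3, nat_lit 2, nat_lit 1]), (nat_lit 196, [nat_lit 4, nat_lit 1]), (nat_lit 207, [nat_lit 5, nat_lit 4, nat_lit 2, nat_lit 0]), (nat_lit 210, [nat_lit 3, nat_lit 1]), (nat_lit 220, [nat_lit 1]), (nat_lit 221, [nat_lit 4, nat_lit 0]), (nat_lit 227, [nat_lit 0, nat_lit 2, nat_lit 1]), (nat_lit 237, [nat_lit 5, nat_lit 0,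 nat_lit 1]), (nat_lit 246, [nat_lit 3]), (nat_lit 251, [nat_lit 5, nat_lit 4, nat_lit 2]), (nat_lit 255, [nat_lit 3, nat_lit 1, nat_lit 0]), (nat_lit 257, [nat_lit 2, nat_lit 0, nat_lit 1, nat_lit 0]), (nat_lit 272, [nat_lit 2, nat_lit 1]), (nat_lit 273, [nat_lit 4, nat_lit 3, nat_lit 0]), (nat_lit 276, [nat_lit 5, nat_lit 1]), (nat_lit 279, [nat_lit 2, nat_lit 0, nat_lit 1]), (nat_lit 283, [nat_lit 4]), (nat_lit 293, [nat_lit 2, nat_lit 1, nat_lit 0]), (nat_lit 309, [nat_lit 2, nat_lit 0]), (nat_lit 311, [nat_lit 3, nat_lit 2]), (nat_lit 318, [nat_lit 5, nat_lit 0]), (nat_lit 323, [nat_lit 4, nat_lit 2, nat_lit 1]), (nat_lit 327, [nat_lit 2]), (nat_lit 329, [nat_lit 4, nat_lit 3, nat_lit 2, nat_lit 1]), (nat_lit 332, [nat_lit 5, nat_lit 3, nat_lit 2, nat_lit 0]), (nat_lit 338, [nat_lit 5, nat_lit 4]), (nat_lit 341, [nat_lit 5, nat_lit 2, nat_lit 0]), (nat_lit 346, [nat_lit 4, nat_lit 3, nat_lit 2]), (nat_lit 348, [nat_lit 0, nat_lit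 1, nat_lit 0, nat_lit 0]), (nat_lit 353, [nat_lit 5, nat_lit 2]), (nat_lit 362, [nat_lit 5, nat_lit 0, nat_lit 2]), (nat_lit 363, [nat_lit 5]), (nat_lit 377, [nat_lit 3, nat_lit 2, nat_lit 0, nat_lit 1]), (nat_lit 390, [nat_lit 5, nat_lit 4, nat_lit 0]), (nat_lit 399, [nat_lit 5, nat_lit 3]), (nat_lit 413, [nat_lit 5, nat_lit 1, nat_lit 0]), (nat_lit 453, [nat_lit 4, nat_lit 3])])]

theorem rel0 : P.relRow (dT T W) B 0 = true := by decide +kernel
theorem rel1 : P.relRow (dT T W) B 1 = true := by decide +kernel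
theorem rel2 : P.relRow (dT T W) B 2 = true := by decide +kernel
theorem rel3 : P.relRow (dT T W) B 3 = true := by decide +kernel
theorem rel4 : P.relRow (dT T W) B 4 = true := by decide +kernel
theorem rel5 : P.relRow (dT T W) B 5 = true := by decide +kernel
theorem fus0 : P.fusOk (dT T W) B fu 0 = true := by decide +kernel
theorem fus1 : P.fusOk (dT T W) B fu 1 = true := by decide +kernel
theorem fus2 : P.fusOk (dT T W) B fu 2 = true := by decide +kernel
theorem fus3 : P.fusOk (dT T W) B fu 3 = true := by decide +kernel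
theorem fus4 : P.fusOk (dT T W) B fu 4 = true := by decide +kernel
theorem fus5 : P.fusOk (dT T W) B fu 5 = true := by decide +kernel
theorem fin0 : P.finRow lam (bs :: CV) MU 0 = true := by decide +kernel
theorem fin1 : P.finRow lam (bs :: CV) MU 1 = true := by decide +kernel
theorem fin2 : P.finRow lam (bs :: CV) MU 2 = true := by decide +kernel
theorem fin3 : P.finRow lam (bs :: CV) MU 3 = true := by decide +kernel
theorem fin4 : P.finRow lam (bs :: CV) MU 4 = true := by decide +kernel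
theorem fin5 : P.finRow lam (bs :: CV) MU 5 = true := by decide +kernel

theorem pm {G : Type*} [Group G] [Finite G] {A : RAct G 455} {g : ℕ → G} (hb : A.IsBase B)
    (h : A.Tab g 9 T) (ho : Nat.card G = 29120) : PMult G 2 1 2 :=
  pmult_of_tab hb h ho P (show Nat.Prime 2 by norm_num) W fu 1 lam bs mo [cc0] CV MU lv 6
    (by decide +kernel) (forall_lt_succ' (forall_lt_succ' (forall_lt_succ' (forall_lt_succ' (forall_lt_succ' (forall_lt_succ' forall_lt_zero' rel0) rel1) rel2) rel3) rel4) rel5) (by decide +kernel)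
    (forall_lt_succ' (forall_lt_succ' (forall_lt_succ' (forall_lt_succ' (forall_lt_succ' (forall_lt_succ' forall_lt_zero' fus0) fus1) fus2) fus3) fus4) fus5)
    (by decide +kernel) (by decide +kernel) (by decide +kernel) (by decide +kernel)
    (List.forall_mem_cons.mpr ⟨con0, (by simp)⟩)
    (forall_lt_succ' (forall_lt_succ' (forall_lt_succ' (forall_lt_succ' (forall_lt_succ' (forall_lt_succ' forall_lt_zero' fin0) fin1) fin2) fin3) fin4) fin5) (by decide +kernel)

end Cfsg.Agent.H3.Sz8.P2
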