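import Cfsg.Agent.L0.CosetChain

/-! Generated coset table certificate. -/

set_option autoImplicit false
set_option maxRecDepth 100000

open Cfsg.Agent.L0

namespace Cfsg.Agent.H3.Sz8.Tc1

noncomputable def t0 : BT := .node (.node (.node (.leaf (nat_lit 0x260025002400230000208200000000370342404f2788204008800840000008000000000007cc9002081001e001d001c0000001b00000000001a3040000640060a64c82040000005c000000000058b9000015001420810013000000120000000000112c4000040003c0038003400009e20000000008204a100000c000b000a00090000208100000000000822400001c0018001400100000000c0000000000080000)) (.leaf (nat_lit 0x789d2c2237be00400000218d00000000208968420e850ac54c47800fc000082240000000120358908483e2088219586190000521f0000000026207241c822000f886515c6000018868000000011e6dc1072221221c2abd2088000041160000000066176e41cdc892274822000f40000864400000000a649b1073ba827a321b62087000046b200000000532e4e4194ab50690821ce8d800008ecc0000000092a93106))) (.node (.leaf (nat_lit 0x208549ac27a529b0000028ab0000000038b85041096b886bca4f252d000009a90000000008215210424b226372a3b973a000020850000000021a4424112a9c821114d50498000110b80000000114c9490320842aa7273051250000272f0000000066375040ce0d944c4821124140000a4e400000000e6a5310327aa48ab28b4003c000039230000000020844840ce2cd5ee0c4e800ec0000821000000001048d0903))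 (.leaf (nat_lit 0x2811218d231f208c0000291800000000531c6e42cd658e0388230a07c00009a5000000000a275b10b2bbf28932aa171220000721000000000208c6842caf00a2f4a66496540000823000000000a041890b208b450c2517581200003a1e000000002a3e704288634a444a468822c00009c64000000018c85b90a2b8e5416208b659a000025950000000027226c428864d62fc9070e6740002083c00000000822da10a)))) (.node (.node (.leaf (nat_lit 0x283a208328ab41af000037b50000000022b652408820c00e8a2a946b800011ec0000000008ac5410228b73b322b392083000047ac0000000021ad4e40984e0c4cc820c00e40000a29c00000000c4a1310225b42082003800370000003600000000003552404820800d000cc00c8000000c40000000000c14101002f002e27a920820000002d00000000002c4e40400ac00a8820800a4000000a000000000009d3101)) (.leaf (nat_lit 0x48bd2bc0491866940000208b00000000280f62429445c822888409c800000a67400000000da51c909208a3517220f369b000023a200000000249570424a8708c84970224f80000c438000000008229a1092a1828192c3f3b1e0000208a00000000280e62424a44882249881204000009c70000000012061c90820895712229b380f0000642100000000471970420d87d4c6882251c280000a84c00000000e4f5b108)))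 (.node (.leaf (nat_lit 0x293b25b936af45ab000055a600000000208748418a4f09aa51eddcae00000821c000000008a99090620862d072bac21a70000293a000000002ab450414a48ca4a0a8c48218000120dc0000000124bd390531a439ad208663b1000023b80000000046ab4c41486e4a8ec9cb948a80000a094000000008219210523a9283c263238b3000020860000000022a542415deb082149a99e4d400009ea800000000dacd4904)) (.leaf (nat_lit 0x6b303b3520a8a52d00002b3c000000002a3b8c49ca4c52cd8829ceeb00000e8ec0000000160f2312620a528a629ad2828000039b40000000078ba90490e0d4a4c0828ce8900000a6a40000000162e63122379a389f20925897000028bf000000003ac06c444e66d2280824526580002670000000000aafdb110208f3790279621910000293e00000000789e704395481446c8234ea380000a4f400000001a24db10c))))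

noncomputable def tree : BT := t0

noncomputable def row : ℕ → ℕ := rowOf tree (nat_lit 3) (nat_lit 7) (nat_lit 162) (nat_lit 0x3ffffffffffffffffffffffffffffffffffffffff)

noncomputable def cols : List Col := [⟨nat_lit 18, nat_lit 0, [([nat_lit 66], nat_lit 0), ([nat_lit 18, nat_lit 114, nat_lit 66, nat_lit 66, nat_lit 98], nat_lit 0), ([nat_lit 114, nat_lit 66, nat_lit 66, nat_lit 98, nat_lit 18], nat_lit 0), ([nat_lit 114, nat_lit 146, nat_lit 146, nat_lit 18, nat_lit 98], nat_lit 0), ([nat_lit 146, nat_lit 66, nat_lit 98, nat_lit 98, nat_lit 130], nat_lit 0), ([nat_lit 98, nat_lit 18, nat_lit 114, nat_lit 146, nat_lit 146], nat_lit 0)]⟩,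
  ⟨nat_lit 66, nat_lit 0, [([nat_lit 18], nat_lit 0), ([nat_lit 98, nat_lit 18, nat_lit 18, nat_lit 114, nat_lit 66], nat_lit 0), ([nat_lit 66, nat_lit 98, nat_lit 18, nat_lit 18, nat_lit 114], nat_lit 0), ([nat_lit 66, nat_lit 98, nat_lit 130, nat_lit 98, nat_lit 146], nat_lit 0), ([nat_lit 66, nat_lit 98, nat_lit 146, nat_lit 98, nat_lit 130], nat_lit 0), ([nat_lit 98, nat_lit 130, nat_lit 98, nat_lit 146, nat_lit 66], nat_lit 0), ([nat_lit 98, nat_lit 146, nat_lit 98, nat_lit 130, nat_lit 66], nat_lit 0), ([nat_lit 98, nat_lit 98, nat_lit 130, nat_lit 18, nat_lit 146], nat_lit 0)]⟩,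
  ⟨nat_lit 98, nat_lit 0, [([nat_lit 114], nat_lit 0), ([nat_lit 18, nat_lit 18, nat_lit 114, nat_lit 66, nat_lit 66], nat_lit 0), ([nat_lit 130, nat_lit 66, nat_lit 66, nat_lit 98, nat_lit 146], nat_lit 0), ([nat_lit 146, nat_lit 66, nat_lit 66, nat_lit 98, nat_lit 130], nat_lit 0), ([nat_lit 18, nat_lit 114, nat_lit 146, nat_lit 146, nat_lit 18], nat_lit 0), ([nat_lit 98, nat_lit 130, nat_lit 18, nat_lit 146, nat_lit 66], nat_lit 0), ([nat_lit 130, nat_lit 98, nat_lit 146, nat_lit 66, nat_lit 66], nat_lit 0), ([nat_lit 146, nat_lit 98, nat_lit 130, nat_lit 66, nat_lit 66], nat_lit 0), ([nat_lit 130, nat_lit 18, nat_lit 146, nat_lit 66, nat_lit 98], nat_lit 0)]⟩,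
  ⟨nat_lit 114, nat_lit 0, [([nat_lit 98], nat_lit 0), ([nat_lit 146, nat_lit 146, nat_lit 18, nat_lit 98, nat_lit 18], nat_lit 0), ([nat_lit 66, nat_lit 66, nat_lit 98, nat_lit 18, nat_lit 18], nat_lit 0)]⟩,
  ⟨nat_lit 130, nat_lit 0, [([nat_lit 146], nat_lit 0), ([nat_lit 98, nat_lit 146, nat_lit 66, nat_lit 66, nat_lit 98], nat_lit 0), ([nat_lit 66, nat_lit 66, nat_lit 98, nat_lit 146, nat_lit 98], nat_lit 0), ([nat_lit 18, nat_lit 146, nat_lit 66, nat_lit 98, nat_lit 98], nat_lit 0)]⟩,
  ⟨nat_lit 146, nat_lit 0, [([nat_lit 130], nat_lit 0), ([nat_lit 66, nat_lit 66, nat_lit 98, nat_lit 130, nat_lit 98], nat_lit 0), ([nat_lit 146, nat_lit 18, nat_lit 98, nat_lit 18, nat_lit 114], nat_lit 0), ([nat_lit 18, nat_lit 98, nat_lit 18, nat_lit 114, nat_lit 146], nat_lit 0), ([nat_lit 98, nat_lit 130, nat_lit 66, nat_lit 66, nat_lit 98], nat_lit 0), ([nat_lit 66, nat_lit 98, nat_lit 98, nat_lit 130, nat_lit 18], nat_lit 0)]⟩]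

noncomputable def erots : List (List ℕ × ℕ) := []

noncomputable def gens : List ℕ := [nat_lit 18, nat_lit 66, nat_lit 98, nat_lit 114, nat_lit 130, nat_lit 146]

noncomputable def chk : ℕ → Bool := chkRow0 row (nat_lit 64) (nat_lit 0x7f) (nat_lit 0xf80) (nat_lit 12) (nat_lit 0xf) (nat_lit 0) (nat_lit 0x7f) (nat_lit 7) (nat_lit 0xff) (nat_lit 0x38000) [] cols gens

theorem b0 : allR chk 6 0 = true := by decide +kernel

noncomputable def T : CT := ⟨row, nat_lit 64, nat_lit 64, nat_lit 0x7f, nat_lit 0xf80, nat_lit 12, nat_lit 0xf, nat_lit 0, nat_lit 0x7f, nat_lit 7, nat_lit 0xff, nat_lit 0x38000, nat_lit 162, nat_lit 162, nat_lit 0, nat_lit 6, [], cols, erots, gens⟩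

theorem all : ∀ c < 64, chk c = true := fun c hc =>
  allR_glue (d := 6) (n := 1) (forall_lt_succ' forall_lt_zero' b0) c (lt_of_lt_of_le hc (by norm_num))

/-- the relators used -/
def R : List (List ℕ) := [[nat_lit 0, nat_lit 3],
  [nat_lit 5, nat_lit 6],
  [nat_lit 7, nat_lit 8],
  [nat_lit 3, nat_lit 5, nat_lit 0, nat_lit 0, nat_lit 6, nat_lit 3],
  [nat_lit 3, nat_lit 5, nat_lit 7, nat_lit 5, nat_lit 8, nat_lit 3],
  [nat_lit 3, nat_lit 5, nat_lit 8, nat_lit 5, nat_lit 7, nat_lit 3],
  [nat_lit 5, nat_lit 0, nat_lit 6, nat_lit 8, nat_lit 8, nat_lit 0],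
  [nat_lit 5, nat_lit 5, nat_lit 7, nat_lit 0, nat_lit 8, nat_lit 3]]

theorem cert : Cert T (R.map fun r => (r, 0)) ([].map fun y => (y, 0)) 18 16 [0, 3, 5, 6, 7, 8] :=
  ⟨by decide +kernel, ⟨[[(0, 0), (3, 2), (3, 3), (6, 1), (7, 3), (6, 5)], [(0, 1), (3, 0), (3, 5), (4, 5), (5, 5), (4, 0), (5, 0), (7, 5)], [(1, 0), (3, 1), (5, 3), (4, 3), (6, 0), (7, 0), (4, 1), (5, 1), (7, 1)], [(1, 1), (6, 2), (3, 4)], [(2, 0), (4, 2), (5, 4), (7, 2)], [(2, 1), (4, 4), (6, 3), (6, 4), (5, 2), (7, 4)]], [], by decide +kernel⟩, by decide +kernel, Or.inl ⟨rfl, all⟩⟩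

theorem bound {Γ : Type*} [Group Γ] {x : ℕ → Γ} (hR : ∀ r ∈ R, ev x r = 1) {n : ℕ}
    (h : CardLe x [] n) : CardLe x [0, 3, 5, 6, 7, 8] (64 * n) :=
  cert.cardLe rfl hR h

end Cfsg.Agent.H3.Sz8.Tc1
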